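import Cfsg.Prelude.Def_Transfer
import Cfsg.Agent.Lib.RankOne.OddOrder

/-!
An elementary abelian `2`-group acting faithfully on a group `O` of odd order and on an elementary
abelian `2`-group `V` on which `O` is faithful, with no element of order three inverted, satisfies
`|V : C_V(A)| ≥ |A| ^ 2`.
-/

namespace Cfsg.Agent.Offender62

open Subgroup
open scoped Pointwise

variable {X : Type*} [Group X] [Finite X]

theorem conj_mem' {S : Subgroup X} {x : X} (hx : x ∈ normalizer (S : Set X)) {s : X} (hs : s ∈ S) :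
    x * s * x⁻¹ ∈ S := (mem_normalizer_iff.mp hx s).mp hs

/-- the index is the number of commutators. -/
theorem card_range_commutator {V : Subgroup X} (hV : ∀ a ∈ V, ∀ b ∈ V, a * b = b * a) {a : X}
    (ha : a ∈ normalizer (V : Set X)) :
    ∃ f : ↥V →* ↥V, (∀ v : V, (f v : X) = v⁻¹ * (a * v * a⁻¹)) ∧
      Nat.card f.range = (V ⊓ centralizer ({a} : Set X)).relIndex V := by
  let f : ↥V →* ↥V := MonoidHom.mk'
    (fun v => ⟨(v : X)⁻¹ * (a * v * a⁻¹), V.mul_mem (V.inv_mem v.2) (conj_mem' ha v.2)⟩)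
    (fun v w => Subtype.ext (by
      show ((v : X) * w)⁻¹ * (a * (v * w) * a⁻¹) =
        ((v : X)⁻¹ * (a * v * a⁻¹)) * ((w : X)⁻¹ * (a * w * a⁻¹))
      have h := hV ((v : X)⁻¹ * (a * v * a⁻¹)) (V.mul_mem (V.inv_mem v.2) (conj_mem' ha v.2))
        (w : X)⁻¹ (V.inv_mem w.2)
      calc ((v : X) * w)⁻¹ * (a * (v * w) * a⁻¹)
          = (w : X)⁻¹ * ((v : X)⁻¹ * (a * v * a⁻¹)) * (a * w * a⁻¹) := by group
        _ = _ := by rw [← h]; group))
  refine ⟨f, fun v => rfl, ?_⟩
  rw [← index_ker, relIndex]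
  congr 1
  ext v
  simp only [MonoidHom.mem_ker, mem_subgroupOf, mem_inf, mem_centralizer_singleton_iff]
  constructor
  · intro h
    have h1 : (v : X)⁻¹ * (a * v * a⁻¹) = 1 := congrArg Subtype.val h
    refine ⟨v.2, ?_⟩
    have h2 := (inv_mul_eq_one.mp h1)
    conv_lhs => rw [h2]
    group
  · intro h
    refine Subtype.ext ?_
    show (v : X)⁻¹ * (a * v * a⁻¹) = 1
    rw [← h.2, mul_inv_cancel_right, inv_mul_cancel]

/-- An element of odd order permuting at most three points, all of whose orbits have length prime to `3`,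
fixes them. -/
theorem fix_of_small {α : Type*} [Finite α] (hα : Nat.card α ≤ 3) (σ : Equiv.Perm α) {q : ℕ}
    (hq : q.Prime) (hq5 : 3 < q) (hσ : σ ^ q = 1) : σ = 1 := by
  classical
  rcases (Nat.dvd_prime hq).mp (orderOf_dvd_of_pow_eq_one hσ) with h | h
  · exact orderOf_eq_one_iff.mp h
  · exfalso
    have h1 : q ∣ (Nat.card α).factorial := by
      rw [← Nat.card_perm, ← h]; exact orderOf_dvd_natCard σ
    have h2 := hq.dvd_factorial.mp h1
    omega

/-- An involution inverting a nontrivial element of odd order without elements of order three moves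
`V` substantially. -/
theorem four_le_index {V O : Subgroup X} (hV : Cfsg.IsElementaryAbelian 2 V)
    (hO : Odd (Nat.card O)) (hOV : O ≤ normalizer (V : Set X))
    (hfV : O ⊓ centralizer (V : Set X) = ⊥) {a : X} (ha2 : a * a = 1)
    (haV : a ∈ normalizer (V : Set X)) (haO : a ∈ normalizer (O : Set X))
    (hac : a ∉ centralizer (O : Set X))
    (h3 : ∀ r ∈ O, r ^ 3 = 1 → a * r * a⁻¹ = r⁻¹ → r = 1) :
    4 ≤ (V ⊓ centralizer ({a} : Set X)).relIndex V := by
  classical
  have hVc : ∀ x ∈ V, ∀ y ∈ V, x * y = y * x := fun x hx y hy =>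
    congrArg Subtype.val (hV.1.is_comm.comm ⟨x, hx⟩ ⟨y, hy⟩)
  obtain ⟨o, ho, hne⟩ : ∃ o ∈ O, a * o * a⁻¹ ≠ o := by
    by_contra! hall
    exact hac (mem_centralizer_iff.mpr fun o ho => (mul_inv_eq_iff_eq_mul.mp (hall o ho)).symm)
  set r₀ := o⁻¹ * (a * o * a⁻¹) with hr₀
  have hr₀O : r₀ ∈ O := O.mul_mem (O.inv_mem ho) (conj_mem' haO ho)
  have hr₀i : a * r₀ * a⁻¹ = r₀⁻¹ := by
    calc a * r₀ * a⁻¹ = (a * o * a⁻¹)⁻¹ * ((a * a) * o * (a * a)⁻¹) := by rw [hr₀]; group
      _ = r₀⁻¹ := by rw [ha2, hr₀]; group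
  have hr₀1 : r₀ ≠ 1 := fun h => hne (inv_mul_eq_one.mp h).symm
  obtain ⟨q, hq, hqd⟩ := Nat.exists_prime_and_dvd (n := orderOf r₀)
    (fun h => hr₀1 (orderOf_eq_one_iff.mp h))
  set r := r₀ ^ (orderOf r₀ / q) with hr
  have hrO : r ∈ O := O.pow_mem hr₀O _
  have hri : a * r * a⁻¹ = r⁻¹ := by rw [hr, ← conj_pow, hr₀i, inv_pow]
  have hro : orderOf r = q := orderOf_pow_orderOf_div (orderOf_pos r₀).ne' hqd
  have hrodd : q ≠ 2 := by
    intro h
    have h1 : q ∣ Nat.card O := by
      have := orderOf_dvd_natCard (⟨r, hrO⟩ : O)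
      rwa [orderOf_mk, hro] at this
    rw [h] at h1
    exact Nat.not_even_iff_odd.mpr hO (even_iff_two_dvd.mpr h1)
  have hq3 : q ≠ 3 := by
    intro h
    have hr1 : r = 1 := h3 r hrO (by rw [← h, ← hro]; exact pow_orderOf_eq_one r) hri
    rw [hr1, orderOf_one] at hro
    exact hq.one_lt.ne hro
  have hq5 : 3 < q := by
    have := hq.two_le
    omega
  by_contra hlt
  obtain ⟨f, hf, hfcard⟩ := card_range_commutator hVc haV
  have hW : Nat.card f.range ≤ 3 := by omega
  set b := r * a * r⁻¹ with hb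
  have hrV := hOV hrO
  have hbV : b ∈ normalizer (V : Set X) := mul_mem (mul_mem hrV haV) (inv_mem hrV)
  -- the commutator subgroup of `b`
  let cr : ↥V →* ↥V := MonoidHom.mk' (fun v => ⟨r * v * r⁻¹, conj_mem' hrV v.2⟩)
    (fun v w => Subtype.ext (by show r * ((v : X) * w) * r⁻¹ = r * v * r⁻¹ * (r * w * r⁻¹); group))
  -- `[V, a]` has at most two elements
  have hW2 : Nat.card f.range ≤ 2 := by
    by_contra h
    have h4 : Nat.card f.range = 3 := by omega
    have hdvd := f.range.card_subgroup_dvd_card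
    have hpV : IsPGroup 2 V := fun v => ⟨1, by rw [pow_one]; exact Subtype.ext (hV.2 v v.2)⟩
    obtain ⟨k, hk⟩ := IsPGroup.iff_card.mp hpV
    rw [h4, hk] at hdvd
    exact absurd ((Nat.prime_dvd_prime_iff_eq Nat.prime_three Nat.prime_two).mp
      (Nat.prime_three.dvd_of_dvd_pow hdvd)) (by norm_num)
  set W : Subgroup ↥V := f.range ⊔ f.range.map cr with hW'
  set s := r * r with hs
  have hsV : s ∈ normalizer (V : Set X) := mul_mem hrV hrV
  -- `b * a` is `s`
  have hba : b * a = s := by
    have hainv : a⁻¹ = a := inv_eq_of_mul_eq_one_right ha2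
    have : a * r⁻¹ * a⁻¹ = r := by
      rw [show a * r⁻¹ * a⁻¹ = (a * r * a⁻¹)⁻¹ by group, hri, inv_inv]
    calc b * a = r * (a * r⁻¹ * a⁻¹) * (a * a) := by rw [hb]; group
      _ = s := by rw [this, ha2, mul_one, hs]
  have hinvV : ∀ w : ↥V, w⁻¹ = w := fun w => inv_eq_of_mul_eq_one_right (by
    rw [← pow_two]; exact Subtype.ext (hV.2 w w.2))
  -- `[v, s]` lies in `W`
  have hsW : ∀ v : ↥V, ∃ w ∈ W, (w : X) = (v : X)⁻¹ * (s * v * s⁻¹) := by
    intro v
    let v' : ↥V := ⟨a * v * a⁻¹, conj_mem' haV v.2⟩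
    have h1 : f v ∈ W := mem_sup_left ⟨v, rfl⟩
    let u : ↥V := ⟨r⁻¹ * v' * r, by
      simpa using conj_mem' (inv_mem hrV) v'.2⟩
    have h2 : cr (f u) ∈ W := mem_sup_right ⟨f u, ⟨u, rfl⟩, rfl⟩
    refine ⟨f v * cr (f u), mul_mem h1 h2, ?_⟩
    rw [← hba]
    simp only [Subgroup.coe_mul, hf, cr, MonoidHom.mk'_apply, Subgroup.coe_inv, u, v', hb]
    group
  have hWcard : Nat.card W ≤ 4 := by
    haveI : (f.range.map cr).Normal := ⟨fun x hx g => by
      have : g * x * g⁻¹ = x := Subtype.ext (by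
        show (g : X) * x * (g : X)⁻¹ = x
        rw [hVc g g.2 x x.2, mul_inv_cancel_right])
      rw [this]; exact hx⟩
    have h1 : Nat.card (f.range.map cr) ≤ 2 :=
      le_trans (Nat.le_of_dvd Nat.card_pos (card_map_dvd f.range cr)) hW2
    calc Nat.card W = Nat.card ((f.range : Set V) * (f.range.map cr : Set V) : Set V) := by
          rw [← mul_normal]; rfl
      _ ≤ Nat.card (f.range × (f.range.map cr)) := by
          refine Nat.card_le_card_of_surjective
            (fun x => ⟨x.1.1 * x.2.1, Set.mul_mem_mul x.1.2 x.2.2⟩) ?_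
          rintro ⟨_, a, ha, b, hb, rfl⟩
          exact ⟨⟨⟨a, ha⟩, ⟨b, hb⟩⟩, rfl⟩
      _ ≤ 2 * 2 := by rw [Nat.card_prod]; exact Nat.mul_le_mul hW2 h1
  -- `s` fixes `W` pointwise
  have hsinv : ∀ w ∈ W, (⟨s * w * s⁻¹, conj_mem' hsV (w : ↥V).2⟩ : ↥V) ∈ W := by
    intro w hw
    obtain ⟨z, hz, hzw⟩ := hsW w
    convert mul_mem hw hz using 1
    apply Subtype.ext
    rw [Subgroup.coe_mul, hzw]
    group
  let W' := {w : ↥V // w ∈ W ∧ w ≠ 1}
  have hW'card : Nat.card W' ≤ 3 := by
    have h1 : Nat.card W' < Nat.card W := by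
      letI := Fintype.ofFinite W'
      letI := Fintype.ofFinite W
      rw [Nat.card_eq_fintype_card, Nat.card_eq_fintype_card]
      refine Fintype.card_lt_of_injective_of_notMem (fun w : W' => (⟨w.1, w.2.1⟩ : W))
        (fun x y h => Subtype.ext (congrArg Subtype.val h :)) (b := 1) ?_
      rintro ⟨w, hw⟩
      exact w.2.2 (congrArg Subtype.val hw)
    omega
  let σf : W' → W' := fun w =>
    ⟨⟨s * w.1 * s⁻¹, conj_mem' hsV w.1.2⟩, hsinv _ w.2.1, fun h => w.2.2 (Subtype.ext (by
      have h' : s * (w.1 : X) * s⁻¹ = 1 := congrArg Subtype.val h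
      rw [mul_inv_eq_one, mul_eq_left] at h'
      exact h'))⟩
  have hinj : Function.Injective σf := fun x y h => Subtype.ext (Subtype.ext (by
    have h' : s * (x.1 : X) * s⁻¹ = s * (y.1 : X) * s⁻¹ := congrArg (fun z : W' => (z.1 : X)) h
    exact mul_left_cancel (mul_right_cancel h')))
  let σ : Equiv.Perm W' := Equiv.ofBijective σf (Finite.injective_iff_bijective.mp hinj)
  have hsq : s ^ q = 1 := by
    rw [hs, ← pow_two, ← pow_mul, mul_comm, pow_mul, ← hro, pow_orderOf_eq_one, one_pow]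
  have hpow : ∀ (n : ℕ) (w : W'), (((σ ^ n) w).1 : X) = s ^ n * w.1 * (s ^ n)⁻¹ := by
    intro n
    induction n with
    | zero => intro w; simp
    | succ n ih =>
      intro w
      rw [pow_succ', Equiv.Perm.mul_apply, pow_succ']
      show s * (((σ ^ n) w).1 : X) * s⁻¹ = _
      rw [ih w]; group
  have hσ := fix_of_small hW'card σ hq hq5 (Equiv.ext fun w => Subtype.ext (Subtype.ext (by
    rw [hpow, hsq]; simp)))
  have hfix : ∀ w ∈ W, s * (w : X) * s⁻¹ = w := by
    intro w hw
    by_cases h1 : w = 1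
    · simp [h1]
    · have h2 := congrArg (fun τ : Equiv.Perm W' => ((τ ⟨w, hw, h1⟩).1 : X)) hσ
      exact h2
  have hs2 : s * s ∈ centralizer (V : Set X) := by
    refine mem_centralizer_iff.mpr fun v hv => ?_
    obtain ⟨w, hw, hwv⟩ := hsW ⟨v, hv⟩
    have e1 : s * v * s⁻¹ = v * w := by rw [hwv]; group
    have e2 : s * s * v * (s * s)⁻¹ = v := by
      calc s * s * v * (s * s)⁻¹ = s * (s * v * s⁻¹) * s⁻¹ := by group
        _ = s * (v * w) * s⁻¹ := by rw [e1]
        _ = (s * v * s⁻¹) * (s * (w : X) * s⁻¹) := by group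
        _ = v * ((w : X) * w) := by rw [hfix w hw, e1, mul_assoc]
        _ = v := by rw [← pow_two, hV.2 _ w.2, mul_one]
    exact (mul_inv_eq_iff_eq_mul.mp e2).symm
  have hs21 : s * s = 1 := by
    have : s * s ∈ O ⊓ centralizer (V : Set X) :=
      ⟨O.mul_mem (O.mul_mem hrO hrO) (O.mul_mem hrO hrO), hs2⟩
    rwa [hfV, mem_bot] at this
  have h4 : q ∣ 4 := by
    rw [← hro]; apply orderOf_dvd_of_pow_eq_one
    rw [hs] at hs21
    rw [show (4 : ℕ) = 2 + 2 from rfl, pow_add, pow_two]; exact hs21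
  have := Nat.le_of_dvd (by norm_num) h4
  have hq4 : q ≠ 4 := fun h => by rw [h] at hq; norm_num at hq
  omega

/-- The main bound. -/
theorem offender_bound : ∀ (n : ℕ) (A O V : Subgroup X), Nat.card A ≤ n →
    Cfsg.IsElementaryAbelian 2 V → Cfsg.IsElementaryAbelian 2 A → Odd (Nat.card O) →
    A ≤ normalizer (O : Set X) → A ≤ normalizer (V : Set X) → O ≤ normalizer (V : Set X) →
    O ⊓ centralizer (V : Set X) = ⊥ → A ⊓ centralizer (O : Set X) = ⊥ →
    (∀ a ∈ A, ∀ r ∈ O, r ^ 3 = 1 → a * r * a⁻¹ = r⁻¹ → r = 1) →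
    Nat.card A ^ 2 ≤ (V ⊓ centralizer (A : Set X)).relIndex V := by
  classical
  intro n
  induction n with
  | zero => intro A O V h; exact absurd h (by simpa using (Nat.card_pos (α := A)).ne')
  | succ n ih =>
    intro A O V hn hV hA hO hAO hAV hOV hfV hfA h3
    by_cases hA1 : A = ⊥
    · subst hA1
      rw [card_bot, one_pow]
      exact Nat.one_le_iff_ne_zero.mpr index_ne_zero_of_finite
    have hAc : ∀ x ∈ A, ∀ y ∈ A, x * y = y * x := fun x hx y hy =>
      congrArg Subtype.val (hA.1.is_comm.comm ⟨x, hx⟩ ⟨y, hy⟩)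
    have hA2 : ∀ x ∈ A, x * x = 1 := fun x hx => by rw [← pow_two]; exact hA.2 x hx
    -- the fixed group of a subset
    set Cf : Subgroup X → Subgroup X := fun B => O ⊓ centralizer (B : Set X) with hCf
    -- for every `c` a subgroup `B` with four-group quotient trick
    have hsep : ∀ c ∈ A, c ≠ 1 → ∃ B : Subgroup X, B ≤ A ∧ c ∉ B ∧ (∀ x ∈ A, x ∈ B ∨ x * c ∈ B) ∧
        ¬ Cf B ≤ centralizer ({c} : Set X) := by
      intro c hc hc1
      obtain ⟨B, ⟨hBA, hcB, hBc⟩, hBmax⟩ := Set.Finite.exists_maximal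
        (Set.toFinite {B : Subgroup X | B ≤ A ∧ c ∉ B ∧ ¬ Cf B ≤ centralizer ({c} : Set X)})
        ⟨⊥, bot_le, fun h => hc1 (mem_bot.mp h), fun h => hc1 (by
          have : c ∈ A ⊓ centralizer (O : Set X) := ⟨hc, mem_centralizer_iff.mpr fun o ho =>
            mem_centralizer_singleton_iff.mp (h ⟨ho, mem_centralizer_iff.mpr fun b hb => by
              rw [mem_bot.mp hb]; group⟩)⟩
          rwa [hfA, mem_bot] at this)⟩
      refine ⟨B, hBA, hcB, fun x hx => ?_, hBc⟩
      by_contra! hxB
      -- the two enlargements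
      have key : ∀ y ∈ A, y ∉ B → y * c ∉ B → ∀ o ∈ Cf B, y * o = o * y → c * o = o * c := by
        intro y hy hyB hycB o ho hyo
        set B' := B ⊔ zpowers y
        have hB'A : B' ≤ A := sup_le hBA (zpowers_le.mpr hy)
        have hmemB' : ∀ z ∈ B', z ∈ B ∨ ∃ b ∈ B, z = b * y := by
          let S : Subgroup X :=
            { carrier := {z | z ∈ B ∨ ∃ b ∈ B, z = b * y}
              one_mem' := Or.inl B.one_mem
              inv_mem' := by
                rintro z (hz | ⟨b, hb, rfl⟩)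
                · exact Or.inl (B.inv_mem hz)
                · refine Or.inr ⟨b⁻¹, B.inv_mem hb, ?_⟩
                  rw [mul_inv_rev, inv_eq_of_mul_eq_one_right (hA2 y hy),
                    hAc y hy b⁻¹ (A.inv_mem (hBA hb))]
              mul_mem' := by
                rintro z w (hz | ⟨b, hb, rfl⟩) (hw | ⟨b', hb', rfl⟩)
                · exact Or.inl (B.mul_mem hz hw)
                · exact Or.inr ⟨z * b', B.mul_mem hz hb', by rw [mul_assoc]⟩
                · refine Or.inr ⟨b * w, B.mul_mem hb hw, ?_⟩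
                  rw [mul_assoc, hAc y hy w (hBA hw), ← mul_assoc]
                · refine Or.inl ?_
                  have : b * y * (b' * y) = b * b' := by
                    calc b * y * (b' * y) = b * (y * b') * y := by group
                      _ = b * b' * (y * y) := by rw [hAc y hy b' (hBA hb')]; group
                      _ = b * b' := by rw [hA2 y hy, mul_one]
                  rw [this]; exact B.mul_mem hb hb' }
          intro z hz
          exact (sup_le (fun b hb => Or.inl hb)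
            (zpowers_le.mpr (Or.inr ⟨1, B.one_mem, (one_mul y).symm⟩)) : B' ≤ S) hz
        have hcB' : c ∉ B' := by
          intro h
          rcases hmemB' c h with h | ⟨b, hb, hbc⟩
          · exact hcB h
          · refine hycB ?_
            rw [hbc, ← mul_assoc, hAc y hy b (hBA hb), mul_assoc, hA2 y hy, mul_one]
            exact hb
        by_contra hne
        have hnot : ¬ Cf B' ≤ centralizer ({c} : Set X) := fun h => hne
          (mem_centralizer_singleton_iff.mp (h (show o ∈ Cf B' from ⟨ho.1,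
            mem_centralizer_iff.mpr fun z hz => by
              rcases hmemB' z hz with hz | ⟨b, hb, rfl⟩
              · exact mem_centralizer_iff.mp ho.2 z hz
              · rw [mul_assoc, hyo, ← mul_assoc, mem_centralizer_iff.mp ho.2 b hb, mul_assoc]⟩))).symm
        exact hyB ((hBmax ⟨hB'A, hcB', hnot⟩ le_sup_left) (mem_sup_right (mem_zpowers y)))
      have hxc : x * c ∈ A := A.mul_mem hx hc
      have hCn : ∀ z ∈ A, ∀ o ∈ Cf B, z * o * z⁻¹ ∈ Cf B := fun z hz o ho =>
        ⟨conj_mem' (hAO hz) ho.1, mem_centralizer_iff.mpr fun b hb => by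
          have h1 := mem_centralizer_iff.mp ho.2 b hb
          have h2 := hAc z hz b (hBA hb)
          calc b * (z * o * z⁻¹) = (b * z) * o * z⁻¹ := by group
            _ = z * (b * o) * z⁻¹ := by rw [← h2]; group
            _ = z * o * (b * z⁻¹) := by rw [h1]; group
            _ = z * o * z⁻¹ * b := by rw [← hAc z⁻¹ (A.inv_mem hz) b (hBA hb)]; group⟩
      refine hBc (RankOne.le_of_four_group (hO.of_dvd_nat (card_dvd_of_le inf_le_left)) (hA2 x hx)
        (hA2 c hc) (hAc x hx c hc) (hCn x hx) (hCn c hc) ?_ ?_ ?_)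
      · exact fun o ho h => mem_centralizer_singleton_iff.mpr (key x hx hxB.1 hxB.2 o ho h).symm
      · exact fun o _ h => mem_centralizer_singleton_iff.mpr h.symm
      · exact fun o ho h => mem_centralizer_singleton_iff.mpr (key (x * c) hxc hxB.2
          (by rw [mul_assoc, hA2 c hc, mul_one]; exact hxB.1) o ho h).symm
    -- a minimal separating family
    set fam : Set (Subgroup X) := {B | B ≤ A ∧ (∀ c ∈ A, c ∉ B → ∀ x ∈ A, x ∈ B ∨ x * c ∈ B) ∧
      ∀ c ∈ A, c ∉ B → ¬ Cf B ≤ centralizer ({c} : Set X)} with hfam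
    have hmemfam : ∀ c ∈ A, c ≠ 1 → ∃ B ∈ fam, c ∉ B := by
      intro c hc hc1
      obtain ⟨B, hBA, hcB, hhyp, hnot⟩ := hsep c hc hc1
      refine ⟨B, ⟨hBA, fun d hd hdB x hx => ?_, fun d hd hdB hle => ?_⟩, hcB⟩
      · rcases hhyp x hx with h | h
        · exact Or.inl h
        · refine Or.inr ?_
          rcases hhyp d hd with h' | h'
          · exact absurd h' hdB
          · have e : x * d = (x * c) * (d * c) := by
              rw [mul_assoc, hAc d hd c hc, ← mul_assoc c, hA2 c hc, one_mul]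
            rw [e]; exact B.mul_mem h h'
      · refine hnot fun o ho => ?_
        rcases hhyp d hd with h' | h'
        · exact absurd h' hdB
        · have h1 : d * o = o * d := (mem_centralizer_singleton_iff.mp (hle ho)).symm
          have h2 : (d * c) * o = o * (d * c) := mem_centralizer_iff.mp ho.2 _ h'
          refine mem_centralizer_singleton_iff.mpr ?_
          refine mul_left_cancel (a := d) ?_
          calc d * (o * c) = o * (d * c) := by rw [← mul_assoc, h1, mul_assoc]
            _ = (d * c) * o := h2.symm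
            _ = d * (c * o) := mul_assoc _ _ _
    letI := Fintype.ofFinite (Subgroup X)
    obtain ⟨T, hT, hTmin⟩ := Finset.exists_min_image
      (Finset.univ.filter fun T : Finset (Subgroup X) =>
        (∀ B ∈ T, B ∈ fam) ∧ ∀ c ∈ A, (∀ B ∈ T, c ∈ B) → c = 1) Finset.card
      ⟨Finset.univ.filter (· ∈ fam), Finset.mem_filter.mpr ⟨Finset.mem_univ _,
        fun B hB => (Finset.mem_filter.mp hB).2, fun c hc hall => by
          by_contra hc1
          obtain ⟨B, hB, hcB⟩ := hmemfam c hc hc1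
          exact hcB (hall B (Finset.mem_filter.mpr ⟨Finset.mem_univ _, hB⟩))⟩⟩
    obtain ⟨-, hTf, hTinf⟩ := Finset.mem_filter.mp hT
    obtain ⟨B, hBT⟩ : T.Nonempty := by
      by_contra h
      rw [Finset.not_nonempty_iff_eq_empty] at h
      exact hA1 (eq_bot_iff.mpr fun c hc => mem_bot.mpr (hTinf c hc (by simp [h])))
    obtain ⟨a, haA, ha, ha1⟩ : ∃ a ∈ A, (∀ B' ∈ T.erase B, a ∈ B') ∧ a ≠ 1 := by
      by_contra! h
      have := hTmin (T.erase B) (Finset.mem_filter.mpr ⟨Finset.mem_univ _,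
        fun B' hB' => hTf B' (Finset.mem_of_mem_erase hB'), h⟩)
      exact absurd this (not_le.mpr (Finset.card_erase_lt_of_mem hBT))
    obtain ⟨hBA, hBhyp, -⟩ := hTf B hBT
    have haB : a ∉ B := fun h => ha1 (hTinf a haA fun B' hB' => by
      by_cases e : B' = B
      · exact e ▸ h
      · exact ha B' (Finset.mem_erase.mpr ⟨e, hB'⟩))
    set O' := O ⊓ centralizer ({a} : Set X) with hO'
    -- `B` is faithful on `O'`
    have hfB : B ⊓ centralizer (O' : Set X) = ⊥ := by
      refine eq_bot_iff.mpr fun c hc => mem_bot.mpr (hTinf c (hBA hc.1) fun B' hB' => ?_)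
      by_cases e : B' = B
      · exact e ▸ hc.1
      by_contra hcB'
      obtain ⟨-, -, hnot⟩ := hTf B' hB'
      refine hnot c (hBA hc.1) hcB' fun o ho => mem_centralizer_singleton_iff.mpr ?_
      refine mem_centralizer_iff.mp hc.2 o ⟨ho.1, mem_centralizer_singleton_iff.mpr ?_⟩
      exact (mem_centralizer_iff.mp ho.2 a (ha B' (Finset.mem_erase.mpr ⟨e, hB'⟩))).symm
    set V' := V ⊓ centralizer ({a} : Set X) with hV'
    have hnorm : ∀ x : X, x * a = a * x → x ∈ normalizer (V : Set X) →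
        x ∈ normalizer (V' : Set X) := by
      intro x hxa hxV
      have hx : ∀ z : X, z * a = a * z → z ∈ normalizer (V : Set X) → ∀ v ∈ V', z * v * z⁻¹ ∈ V' := by
        intro z hza hzV v hv
        refine ⟨conj_mem' hzV hv.1, mem_centralizer_singleton_iff.mpr ?_⟩
        have hva := mem_centralizer_singleton_iff.mp hv.2
        have hzi : z⁻¹ * a = a * z⁻¹ := (Commute.inv_left (show Commute z a from hza)).eq
        calc z * v * z⁻¹ * a = z * (v * a) * z⁻¹ := by rw [mul_assoc _ z⁻¹, hzi]; group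
          _ = a * (z * v * z⁻¹) := by rw [hva, ← mul_assoc z, hza]; group
      refine mem_normalizer_iff.mpr fun v => ⟨hx x hxa hxV v, fun h => ?_⟩
      simpa [mul_assoc] using hx x⁻¹ (Commute.inv_left (show Commute x a from hxa)).eq (inv_mem hxV) _ h
    have hBlt : B < A := lt_of_le_of_ne hBA fun h => haB (h ▸ haA)
    have hBcard : Nat.card B ≤ n := by
      have : Nat.card B < Nat.card A := by
        refine lt_of_le_of_ne (card_le_of_le hBA) fun e => hBlt.ne ?_
        exact eq_of_le_of_card_ge hBA e.ge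
      omega
    have hIH := ih B O' V' hBcard ⟨⟨⟨fun x y => Subtype.ext (congrArg Subtype.val
        (hV.1.is_comm.comm ⟨x.1, x.2.1⟩ ⟨y.1, y.2.1⟩) :)⟩⟩, fun v hv => hV.2 v hv.1⟩
      ⟨⟨⟨fun x y => Subtype.ext (hAc x (hBA x.2) y (hBA y.2))⟩⟩, fun b hb => hA.2 b (hBA hb)⟩
      (hO.of_dvd_nat (card_dvd_of_le inf_le_left))
      (fun b hb => by
        have hx : ∀ z ∈ A, ∀ o ∈ O', z * o * z⁻¹ ∈ O' := fun z hz o ho =>
          ⟨conj_mem' (hAO hz) ho.1, mem_centralizer_singleton_iff.mpr (by
            have hoa := mem_centralizer_singleton_iff.mp ho.2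
            have hzi : z⁻¹ * a = a * z⁻¹ := hAc _ (A.inv_mem hz) a haA
            calc z * o * z⁻¹ * a = z * (o * a) * z⁻¹ := by rw [mul_assoc _ z⁻¹, hzi]; group
              _ = a * (z * o * z⁻¹) := by rw [hoa, ← mul_assoc z, hAc z hz a haA]; group)⟩
        refine mem_normalizer_iff.mpr fun o => ⟨hx b (hBA hb) o, fun h => ?_⟩
        simpa [mul_assoc] using hx b⁻¹ (A.inv_mem (hBA hb)) _ h)
      (fun b hb => hnorm b (hAc b (hBA hb) a haA) (hAV (hBA hb)))
      (fun o ho => hnorm o (mem_centralizer_singleton_iff.mp ho.2) (hOV ho.1))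
      ?_ hfB (fun x hx r hr => h3 x (hBA hx) r hr.1)
    swap
    · -- `O'` is faithful on `V'`
      refine eq_bot_iff.mpr fun o ho => mem_bot.mpr ?_
      obtain ⟨⟨hoO, hoa⟩, hoV'⟩ := ho
      have hoa' := mem_centralizer_singleton_iff.mp hoa
      have hoV := hOV hoO
      have hC : o * o ∈ centralizer (V : Set X) := by
        refine mem_centralizer_iff.mpr fun v hv => ?_
        set d := v⁻¹ * (o * v * o⁻¹) with hd
        have hdV : d ∈ V := V.mul_mem (V.inv_mem hv) (conj_mem' hoV hv)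
        have hc : v⁻¹ * (a * v * a⁻¹) ∈ V' := by
          have hcV : v⁻¹ * (a * v * a⁻¹) ∈ V := V.mul_mem (V.inv_mem hv) (conj_mem' (hAV haA) hv)
          refine ⟨hcV, mem_centralizer_singleton_iff.mpr ?_⟩
          have h1 : (v⁻¹ * (a * v * a⁻¹))⁻¹ = v⁻¹ * (a * v * a⁻¹) :=
            inv_eq_of_mul_eq_one_right (by rw [← pow_two]; exact hV.2 _ hcV)
          have h2 : a * (v⁻¹ * (a * v * a⁻¹)) * a⁻¹ = (v⁻¹ * (a * v * a⁻¹))⁻¹ := by
            calc a * (v⁻¹ * (a * v * a⁻¹)) * a⁻¹
                = (a * v * a⁻¹)⁻¹ * ((a * a) * v * (a * a)⁻¹) := by group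
              _ = _ := by rw [hA2 a haA]; group
          rw [h1] at h2
          exact (mul_inv_eq_iff_eq_mul.mp h2).symm
        have hoc := mem_centralizer_iff.mp hoV' _ hc
        -- `d` is centralized by `a`
        have hda : a * d * a⁻¹ = d := by
          have hoi : a * o * a⁻¹ = o := mul_inv_eq_iff_eq_mul.mpr hoa'.symm
          have hvV := hV.1.is_comm
          set c := v⁻¹ * (a * v * a⁻¹) with hcdef
          have e1 : a * v * a⁻¹ = v * c := by rw [hcdef]; group
          have e2 : o * c * o⁻¹ = c := mul_inv_eq_iff_eq_mul.mpr hoc.symm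
          calc a * d * a⁻¹ = (a * v * a⁻¹)⁻¹ * ((a * o * a⁻¹) * (a * v * a⁻¹) * (a * o * a⁻¹)⁻¹) := by
                rw [hd]; group
            _ = c⁻¹ * d * (o * c * o⁻¹) := by rw [e1, hoi, hd]; group
            _ = d := by
              have hdc : d * c = c * d := congrArg Subtype.val (hvV.comm ⟨d, hdV⟩ ⟨c, hc.1⟩)
              rw [e2, mul_assoc, hdc, inv_mul_cancel_left]
        have hdV' : d ∈ V' := ⟨hdV, mem_centralizer_singleton_iff.mpr
          (mul_inv_eq_iff_eq_mul.mp hda).symm⟩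
        have hod := mem_centralizer_iff.mp hoV' _ hdV'
        have e1 : o * v * o⁻¹ = v * d := by rw [hd]; group
        have e2 : o * d * o⁻¹ = d := mul_inv_eq_iff_eq_mul.mpr hod.symm
        have e3 : o * o * v * (o * o)⁻¹ = v := by
          calc o * o * v * (o * o)⁻¹ = o * (o * v * o⁻¹) * o⁻¹ := by group
            _ = o * (v * d) * o⁻¹ := by rw [e1]
            _ = (o * v * o⁻¹) * (o * d * o⁻¹) := by group
            _ = v * (d * d) := by rw [e1, e2, mul_assoc]
            _ = v := by rw [← pow_two, hV.2 d hdV, mul_one]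
        exact (mul_inv_eq_iff_eq_mul.mp e3).symm
      have h1 : o * o = 1 := by
        have : o * o ∈ O ⊓ centralizer (V : Set X) := ⟨O.mul_mem hoO hoO, hC⟩
        rwa [hfV, mem_bot] at this
      have h2 : orderOf o ∣ 2 := orderOf_dvd_of_pow_eq_one (by rw [pow_two]; exact h1)
      have h4 : orderOf o ∣ Nat.card O := by
        have := orderOf_dvd_natCard (⟨o, hoO⟩ : O); rwa [orderOf_mk] at this
      exact orderOf_eq_one_iff.mp (Nat.eq_one_of_dvd_coprimes (Nat.coprime_two_left.mpr hO) h2 h4)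
    have h4 := four_le_index hV hO hOV hfV (hA2 a haA) (hAV haA) (hAO haA)
      (fun h => ha1 (by
        have : a ∈ A ⊓ centralizer (O : Set X) := ⟨haA, h⟩
        rwa [hfA, mem_bot] at this)) (h3 a haA)
    have hCA : V ⊓ centralizer (A : Set X) = V' ⊓ centralizer (B : Set X) := by
      refine le_antisymm (le_inf (inf_le_inf_left V (centralizer_le (by simpa using haA)))
        (inf_le_right.trans (centralizer_le hBA))) ?_
      rintro v ⟨⟨hv, hva⟩, hvB⟩
      refine ⟨hv, mem_centralizer_iff.mpr fun x hx => ?_⟩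
      have hva' := (mem_centralizer_singleton_iff.mp hva).symm
      rcases hBhyp a haA haB x hx with h | h
      · exact mem_centralizer_iff.mp hvB x h
      · refine mul_right_cancel (b := a) ?_
        calc x * v * a = x * (a * v) := by rw [mul_assoc, ← hva']
          _ = v * (x * a) := by rw [← mul_assoc]; exact mem_centralizer_iff.mp hvB _ h
          _ = v * x * a := (mul_assoc _ _ _).symm
    have hcard : Nat.card A ≤ 2 * Nat.card B := by
      have hsurj : Function.Surjective (fun z : B × Bool =>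
          (⟨z.1.1 * (if z.2 then a else 1),
            A.mul_mem (hBA z.1.2) (by split <;> simp [haA])⟩ : A)) := by
        rintro ⟨x, hx⟩
        rcases hBhyp a haA haB x hx with h | h
        · exact ⟨(⟨x, h⟩, false), by simp⟩
        · exact ⟨(⟨x * a, h⟩, true), Subtype.ext (by simp [mul_assoc, hA2 a haA])⟩
      have := Nat.card_le_card_of_surjective _ hsurj
      rw [Nat.card_prod] at this
      simpa [mul_comm] using this
    rw [hCA, ← relIndex_mul_relIndex (V' ⊓ centralizer (B : Set X)) V' V inf_le_left inf_le_left]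
    calc Nat.card A ^ 2 ≤ (2 * Nat.card B) ^ 2 := Nat.pow_le_pow_left hcard 2
      _ = Nat.card B ^ 2 * 4 := by ring
      _ ≤ _ := Nat.mul_le_mul hIH h4

end Cfsg.Agent.Offender62
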